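import Cfsg.Agent.MaxPearl.PowersC
import Cfsg.Agent.S4143

/-!
In a `p`-group of maximal class every subgroup has index at most `p ^ p` over the subgroup of its
`p`-th powers: existence of elements with centralizer of order `p²` via the periodicity of the
two-step centralizers, and the counting.
-/

set_option autoImplicit false
set_option linter.style.haveILetI false

open scoped commutatorElement

namespace CfsgLib.MaxPearlC

open CfsgLib.MaxPearl

universe u

section
variable {G : Type u} [Group G] {p n : ℕ} {T : ℕ → Subgroup G}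

/-- The two-step centralizer of the `j`-th level. -/
def twoStep (T : ℕ → Subgroup G) (j : ℕ) [(T (j + 2)).Normal] : Subgroup G :=
  (Subgroup.centralizer (QuotientGroup.mk' (T (j + 2)) '' (T j : Set G))).comap (QuotientGroup.mk' (T (j + 2)))

theorem mem_twoStep {j : ℕ} [(T (j + 2)).Normal] {g : G} :
    g ∈ twoStep T j ↔ ∀ u ∈ T j, ⁅g, u⁆ ∈ T (j + 2) := by
  rw [twoStep, Subgroup.mem_comap, Subgroup.mem_centralizer_iff]
  constructor
  · intro h u hu
    exact commute_mk.1 (Commute.symm (h _ ⟨u, hu, rfl⟩))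
  · rintro h _ ⟨u, hu, rfl⟩
    exact (commute_mk.2 (h u hu)).symm.eq

/-- Every level below the centre is moved. -/
def Moves (n : ℕ) (T : ℕ → Subgroup G) : Prop :=
  ∀ j, 1 ≤ j → j + 2 ≤ n → ∃ g : G, ∃ u ∈ T j, ⁅g, u⁆ ∉ T (j + 2)

theorem add_all [Finite G] [Fact p.Prime] (c : Chain p n T) {a b : ℕ} (ha : 1 ≤ a) (hb : 1 ≤ b) :
    ⁅T a, T b⁆ ≤ T (a + b) := by
  rcases Nat.lt_or_ge a 2 with h | h
  · obtain rfl : a = 1 := by omega
    rw [Subgroup.commutator_comm, Nat.add_comm]
    exact (Subgroup.commutator_mono le_rfl le_top).trans (c.step b hb)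
  · rcases Nat.lt_or_ge b 2 with h' | h'
    · obtain rfl : b = 1 := by omega
      exact (Subgroup.commutator_mono le_rfl le_top).trans (c.step a ha)
    · exact c.add a b h h'

end

variable {p : ℕ} [hp : Fact p.Prime]

/-- A finite group all of whose proper subgroups have index at least `p` is not covered by `p` of them. -/
theorem exists_avoid {G : Type u} [Group G] [Finite G] (hG : IsPGroup p G) (F : Finset ℕ) (hF : F.card ≤ p)
    (C : ℕ → Subgroup G) (hC : ∀ j ∈ F, C j ≠ ⊤) : ∃ g, ∀ j ∈ F, g ∉ C j := by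
  classical
  haveI := Fintype.ofFinite G
  by_contra hcon
  push Not at hcon
  rcases F.eq_empty_or_nonempty with rfl | ⟨j₀, hj₀⟩
  · obtain ⟨j, hj, -⟩ := hcon 1
    exact absurd hj (Finset.notMem_empty j)
  have hsub : (Finset.univ : Finset G).erase 1 ⊆
      F.biUnion fun j => (Finset.univ.filter fun g => g ∈ C j).erase 1 := by
    intro g hg
    obtain ⟨j, hj, hgj⟩ := hcon g
    exact Finset.mem_biUnion.2 ⟨j, hj, Finset.mem_erase.2 ⟨(Finset.mem_erase.1 hg).1,
      Finset.mem_filter.2 ⟨Finset.mem_univ g, hgj⟩⟩⟩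
  have hbound : ∀ j ∈ F, ((Finset.univ.filter fun g => g ∈ C j).erase 1).card ≤ Nat.card G / p - 1 := by
    intro j hj
    rw [Finset.card_erase_of_mem (by simp [one_mem]), ← Fintype.card_subtype, ← Nat.card_eq_fintype_card]
    refine Nat.sub_le_sub_right ((Nat.le_div_iff_mul_le hp.out.pos).2 ?_) 1
    have := Cfsg.Agent.S4143.card_mul_le_of_lt hG (le_top : C j ≤ ⊤) (hC j hj)
    rwa [Subgroup.card_top] at this
  have h := (Finset.card_le_card hsub).trans (Finset.card_biUnion_le.trans (Finset.sum_le_card_nsmul _ _ _ hbound))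
  rw [Finset.card_erase_of_mem (Finset.mem_univ _), Finset.card_univ, ← Nat.card_eq_fintype_card,
    smul_eq_mul] at h
  have h2 : F.card * (Nat.card G / p - 1) ≤ p * (Nat.card G / p - 1) := Nat.mul_le_mul_right _ hF
  have h3 : 1 ≤ Nat.card G / p := by
    refine (Nat.le_div_iff_mul_le hp.out.pos).2 ?_
    rw [one_mul]
    have := Cfsg.Agent.S4143.card_mul_le_of_lt hG (le_top : C j₀ ≤ ⊤) (hC j₀ hj₀)
    rw [Subgroup.card_top] at this
    exact le_trans (Nat.le_mul_of_pos_left p Nat.card_pos) this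
  have h4 := Nat.div_mul_le_self (Nat.card G) p
  have h7 : p * (Nat.card G / p - 1) = Nat.card G / p * p - p := by
    rw [Nat.mul_sub, Nat.mul_one, Nat.mul_comm]
  have h5 : p ≤ Nat.card G / p * p := Nat.le_mul_of_pos_left p h3
  have h6 := hp.out.two_le
  omega

variable {n : ℕ}

theorem seed_of_avoid {G : Type u} [Group G] [Finite G] {T : ℕ → Subgroup G} (c : Chain p n T) {s : G}
    (h : ∀ j, 1 ≤ j → j + 2 ≤ n → ∃ u ∈ T j, ⁅s, u⁆ ∉ T (j + 2)) : SeedC p s := by
  have h4 := c.h4
  have hs : s ∉ T 1 := fun hs => by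
    obtain ⟨u, hu, hu'⟩ := h 1 le_rfl (by omega)
    exact hu' (c.anti (by omega) (c.comm_one hs hu))
  set C := Subgroup.centralizer ({s} : Set G)
  have hle : T 1 ⊓ C ≤ T (n - 1) := by
    rintro x ⟨hx1, hx2⟩
    by_contra hx
    obtain ⟨j, hj, hj1, hj2⟩ := c.level (x := x) fun e => hx (e ▸ one_mem _)
    have hjlo : 1 ≤ j := by
      by_contra h0
      obtain rfl : j = 0 := by omega
      exact hj2 hx1
    have hjhi : j + 2 ≤ n := by
      by_contra h0
      exact hx (c.anti (by omega) hj1)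
    obtain ⟨u, hu, hu'⟩ := h j hjlo hjhi
    haveI := c.normal (j + 2)
    obtain ⟨k, -, w, hw, rfl⟩ := c.gen hj hj1 hj2 hu
    refine hu' (commute_mk.1 ?_)
    rw [map_mul, map_pow]
    have hsx : Commute s x := (Subgroup.mem_centralizer_singleton_iff.1 hx2).symm
    exact ((hsx.map (QuotientGroup.mk' (T (j + 2)))).pow_right k).mul_right
      (commute_mk.2 (c.mem_step (by omega) hw s))
  have hZ : T (n - 1) ≤ C := fun z hz => by
    refine Subgroup.mem_centralizer_singleton_iff.2 ?_
    have h : ⁅s, z⁆ = 1 := c.eq_one (by omega) (c.mem_step (by omega) hz s)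
    exact (commutatorElement_eq_one_iff_mul_comm.1 h).symm
  have hcardZ : Nat.card (T (n - 1)) = p := by
    rw [c.card (n - 1) (by omega), show n - (n - 1) = 1 by omega, pow_one]
  have hlow : Nat.card (T (n - 1)) * p ≤ Nat.card C := Cfsg.Agent.S4143.card_mul_le_of_lt
    (IsPGroup.of_card c.hG) hZ fun e => hs (c.anti (by omega) (e.ge (Subgroup.mem_centralizer_singleton_iff.2 rfl)))
  rw [hcardZ] at hlow
  refine ⟨le_antisymm ?_ (by rwa [sq])⟩
  haveI := c.normal 1
  have h1 : (T 1).relIndex C ∣ (T 1).index := Subgroup.relIndex_dvd_index_of_normal _ _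
  have hidx : (T 1).index = p := by
    have e := (T 1).card_mul_index
    rw [c.card 1 (by omega), c.hG, show p ^ n = p ^ (n - 1) * p by rw [← pow_succ]; congr 1; omega] at e
    exact Nat.eq_of_mul_eq_mul_left (pow_pos hp.out.pos _) e
  rw [hidx] at h1
  have h2 : Nat.card ↥(T 1 ⊓ C) * (T 1).relIndex C = Nat.card C := by
    rw [← Subgroup.relIndex_bot_left, ← Subgroup.relIndex_bot_left, ← Subgroup.inf_relIndex_right (T 1) C]
    exact Subgroup.relIndex_mul_relIndex _ _ _ bot_le inf_le_right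
  rw [← h2, sq]
  exact Nat.mul_le_mul ((Subgroup.card_le_of_le hle).trans hcardZ.le) (Nat.le_of_dvd hp.out.pos h1)

/-- The image of a level modulo the next but one to last. -/
theorem card_map_mk {G : Type u} [Group G] [Finite G] {N H : Subgroup G} [N.Normal] (h : N ≤ H) :
    Nat.card N * Nat.card (H.map (QuotientGroup.mk' N)) = Nat.card H := by
  have e := Subgroup.relIndex_ker H (QuotientGroup.mk' N)
  rw [QuotientGroup.ker_mk'] at e
  rw [← e, ← Subgroup.relIndex_bot_left, ← Subgroup.relIndex_bot_left]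
  exact Subgroup.relIndex_mul_relIndex _ _ _ bot_le h

theorem chain_quotient {G : Type u} [Group G] [Finite G] {T : ℕ → Subgroup G} (c : Chain p n T) (hn : 5 ≤ n)
    [(T (n - 1)).Normal] :
    Chain p (n - 1) (fun j => (T j).map (QuotientGroup.mk' (T (n - 1)))) := by
  set π := QuotientGroup.mk' (T (n - 1))
  have hZ : Nat.card (T (n - 1)) = p := by
    rw [c.card (n - 1) (by omega), show n - (n - 1) = 1 by omega, pow_one]
  refine ⟨?_, by omega, ?_, fun j hj => ?_, fun j hj => ?_, fun a b hab => Subgroup.map_mono (c.anti hab),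
    fun j => (c.normal j).map π (QuotientGroup.mk'_surjective _), fun j hj => ?_, fun a b ha hb => ?_, ?_⟩
  · have h := Subgroup.card_eq_card_quotient_mul_card_subgroup (T (n - 1))
    rw [hZ, c.hG, show p ^ n = p ^ (n - 1) * p by rw [← pow_succ]; congr 1; omega] at h
    exact (Nat.eq_of_mul_eq_mul_right hp.out.pos h).symm
  · show (T 0).map π = ⊤
    rw [c.zero]
    exact Subgroup.map_top_of_surjective π (QuotientGroup.mk'_surjective _)
  · have h := card_map_mk (c.anti hj)
    rw [hZ, c.card j (by omega), show n - j = n - 1 - j + 1 by omega, pow_succ'] at h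
    exact Nat.eq_of_mul_eq_mul_left hp.out.pos h
  · rw [Subgroup.map_eq_bot_iff, QuotientGroup.ker_mk']
    exact c.anti hj
  · show ⁅(T j).map π, (⊤ : Subgroup (G ⧸ T (n - 1)))⁆ ≤ _
    rw [← Subgroup.map_top_of_surjective π (QuotientGroup.mk'_surjective _), ← Subgroup.map_commutator]
    exact Subgroup.map_mono (c.step j hj)
  · rw [← Subgroup.map_commutator]
    exact Subgroup.map_mono (c.add a b ha hb)
  · rw [← Subgroup.map_commutator]
    exact Subgroup.map_mono c.def12

/-- Periodicity of the two-step centralizers below the centre. -/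
theorem twoStep_le {G : Type u} [Group G] [Finite G] {T : ℕ → Subgroup G} [∀ j, (T j).Normal] (c : Chain p n T)
    {s : G ⧸ T (n - 1)} (d : SeedC p s) {j : ℕ} (hj1 : 1 ≤ j) (hjn : j + (p - 1) + 3 ≤ n) :
    twoStep T j ≤ twoStep T (j + (p - 1)) := by
  have hp2 := hp.out.two_le
  set π := QuotientGroup.mk' (T (n - 1)) with hπ
  have c' := chain_quotient c (by omega)
  intro g hg
  rw [mem_twoStep] at hg ⊢
  obtain ⟨u, hu, hu'⟩ := c.exists_level (show j < n by omega)
  have hu2 : π u ∉ (T (j + 1)).map π := by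
    rintro ⟨z, hz, he⟩
    have := QuotientGroup.eq.1 he
    exact hu' ((Subgroup.mul_mem_cancel_left _ ((T (j + 1)).inv_mem hz)).1 (c.anti (by omega) this))
  obtain ⟨hp1, hp2'⟩ := d.pow_level c' (show p + 2 ≤ n - 1 by omega) hj1 (show j + p ≤ n - 1 by omega)
    (y := π u) ⟨u, hu, rfl⟩ hu2
  have hmem : ∀ {k : ℕ} {x : G}, k ≤ n - 1 → π x ∈ (T k).map π → x ∈ T k := fun {k x} hk hx => by
    obtain ⟨z, hz, he⟩ := hx
    have := QuotientGroup.eq.1 he
    exact (Subgroup.mul_mem_cancel_left _ ((T k).inv_mem hz)).1 (c.anti hk this)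
  have hu3 : u ^ p ∈ T (j + (p - 1)) := hmem (by omega) (by rw [map_pow]; exact hp1)
  have hu4 : u ^ p ∉ T (j + (p - 1) + 1) := fun h => hp2' (by rw [← map_pow]; exact ⟨_, h, rfl⟩)
  have hgu := hg u hu
  have hT : ∀ z ∈ (T (j + 2 + 1)).map π, z ^ p ∈ (T (j + 2 + p)).map π := fun z hz => by
    have := d.pow_mem_two c' (by omega) hz
    rwa [show j + 2 + 1 + (p - 1) = j + 2 + p by omega] at this
  have hw : π ⁅g, u⁆ ∈ (T (j + 2)).map π := ⟨_, hgu, rfl⟩
  have h6 := CfsgLib.MaxPearlP.mul_pow_mod c' (k := j + 2) (by omega) hT (x := π u) hw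
  have hA : π ⁅g, u⁆ ^ p ∈ (T (j + (p - 1) + 2)).map π := by
    have := d.pow_mem_two c' (by omega) hw
    rwa [show j + 2 + (p - 1) = j + (p - 1) + 2 by omega] at this
  have hB : (fun z => ⁅π u, z⁆)^[p - 1] (π ⁅g, u⁆) ∈ (T (j + (p - 1) + 2)).map π := by
    have := CfsgLib.MaxPearlP.iter_mem c' (π u) (k := j + 2) (by omega) hw (p - 1)
    rwa [show j + 2 + (p - 1) = j + (p - 1) + 2 by omega] at this
  have hkey : ⁅g, u ^ p⁆ ∈ T (j + (p - 1) + 2) := by
    refine hmem (by omega) ?_
    have e : π ⁅g, u ^ p⁆ = (π ⁅g, u⁆ * π u) ^ p * (π u ^ p)⁻¹ := by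
      rw [← map_mul, ← map_pow, ← map_pow, ← map_inv, ← map_mul,
        show ⁅g, u⁆ * u = g * u * g⁻¹ by rw [commutatorElement_def]; group, conj_pow, commutatorElement_def]
    set A := π ⁅g, u⁆ ^ p
    set B := (fun z => ⁅π u, z⁆)^[p - 1] (π ⁅g, u⁆)
    set M := (T (j + (p - 1) + 2)).map π
    rw [e, show (π ⁅g, u⁆ * π u) ^ p * (π u ^ p)⁻¹ =
      A * B * (π u ^ p * ((A * B * π u ^ p)⁻¹ * (π ⁅g, u⁆ * π u) ^ p) * (π u ^ p)⁻¹) by group]
    haveI : M.Normal := c'.normal _
    exact mul_mem (mul_mem hA hB) (Subgroup.Normal.conj_mem ‹M.Normal› _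
      (Subgroup.map_mono (c.anti (by omega)) h6) _)
  intro x hx
  obtain ⟨k, -, w, hwT, rfl⟩ := c.gen (show j + (p - 1) < n by omega) hu3 hu4 hx
  rw [← commute_mk, map_mul, map_pow _ (u ^ p) k]
  exact ((commute_mk.2 hkey).pow_right k).mul_right (commute_mk.2 (c.mem_step (by omega) hwT g))

/-- An element with centralizer of order `p²` exists. -/
theorem exists_seed : ∀ (n : ℕ) {G : Type u} [Group G] [Finite G] {T : ℕ → Subgroup G},
    Chain p n T → Moves n T → ∃ s : G, SeedC p s := by
  intro n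
  induction n using Nat.strong_induction_on with
  | _ n ih =>
  intro G _ _ T c hm
  classical
  have h4 := c.h4
  have hp2 := hp.out.two_le
  haveI : ∀ j, (T j).Normal := c.normal
  have hlift : ∀ j, 1 ≤ j → j + 2 ≤ n → ∃ j', n - (p + 1) ≤ j' ∧ 1 ≤ j' ∧ j' + 2 ≤ n ∧
      twoStep T j ≤ twoStep T j' := by
    suffices key : ∀ m j, n ≤ j + m → 1 ≤ j → j + 2 ≤ n →
        ∃ j', n - (p + 1) ≤ j' ∧ 1 ≤ j' ∧ j' + 2 ≤ n ∧ twoStep T j ≤ twoStep T j' from
      fun j h1 h2 => key n j (by omega) h1 h2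
    intro m
    induction m with
    | zero => intro j h h1 h2; omega
    | succ m ihm =>
      intro j hjm hj1 hj2
      rcases Nat.lt_or_ge j (n - (p + 1)) with hlt | hge
      swap
      · exact ⟨j, hge, hj1, hj2, le_rfl⟩
      obtain ⟨j', h1, h2, h3, h5⟩ := ihm (j + (p - 1)) (by omega) (by omega) (by omega)
      refine ⟨j', h1, h2, h3, le_trans ?_ h5⟩
      -- periodicity, through the quotient by the centre
      set π := QuotientGroup.mk' (T (n - 1)) with hπ
      have c' := chain_quotient c (by omega)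
      have hm' : Moves (n - 1) (fun i => (T i).map π) := by
        intro i hi1 hi2
        obtain ⟨g, u, hu, hgu⟩ := hm i hi1 (by omega)
        refine ⟨π g, π u, ⟨u, hu, rfl⟩, ?_⟩
        rw [← map_commutatorElement]
        rintro ⟨z, hz, he⟩
        have := QuotientGroup.eq.1 he
        exact hgu ((Subgroup.mul_mem_cancel_left _ ((T (i + 2)).inv_mem hz)).1 (c.anti (by omega) this))
      obtain ⟨s, d⟩ := ih (n - 1) (by omega) c' hm'
      exact twoStep_le c d hj1 (by omega)
  set F := Finset.Ico (max 1 (n - (p + 1))) (n - 1) with hF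
  obtain ⟨s, hs⟩ := exists_avoid (IsPGroup.of_card c.hG) F (by rw [hF, Nat.card_Ico]; omega)
    (fun j => twoStep T j) fun j hj e => by
      obtain ⟨hj1, hj2⟩ := Finset.mem_Ico.1 hj
      obtain ⟨g, u, hu, hgu⟩ := hm j ((le_max_left _ _).trans hj1) (by omega)
      exact hgu (mem_twoStep.1 (e ▸ Subgroup.mem_top g : g ∈ twoStep T j) u hu)
  refine ⟨s, seed_of_avoid c fun j hj1 hj2 => ?_⟩
  obtain ⟨j', h1, h2, h3, h5⟩ := hlift j hj1 hj2
  by_contra hcon
  push Not at hcon
  exact hs j' (Finset.mem_Ico.2 ⟨max_le h2 h1, by omega⟩) (h5 (mem_twoStep.2 hcon))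

/-- `x ↦ u⁻¹ x u x⁻¹`. -/
def inner {G : Type u} [Group G] (x u : G) : G := u⁻¹ * (x * u * x⁻¹)

/-- A group of maximal class of order `p^(p+1)` does not have exponent `p`. -/
theorem not_exponent {G : Type u} [Group G] [Finite G] {T : ℕ → Subgroup G} (c : Chain p n T) {s : G}
    (d : SeedC p s) (hn : n = p + 1) (hexp : ∀ x : G, x ^ p = 1) : False := by
  classical
  subst hn
  have hp2 := hp.out.two_le
  haveI : ∀ j, (T j).Normal := c.normal
  obtain ⟨y, hy, hy'⟩ := c.exists_level (j := 1) (by omega)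
  have hstep : ∀ (x : G) {j : ℕ} {u : G}, 1 ≤ j → u ∈ T j → inner x u ∈ T (j + 1) := fun x j u hj hu => by
    rw [show inner x u = ⁅u⁻¹, x⁆ by rw [inner, commutatorElement_def]; group]
    exact c.step j hj (Subgroup.commutator_mem_commutator (inv_mem hu) (Subgroup.mem_top x))
  have hE : ∀ (x : G) (r : ℕ), (inner x)^[r] y ∈ T (r + 1) := fun x r => by
    induction r with
    | zero => exact hy
    | succ r ih => rw [Function.iterate_succ_apply']; exact hstep x (by omega) ih
  have hlev : ∀ r, r + 2 ≤ p + 1 → (inner s)^[r] y ∉ T (r + 2) := by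
    intro r
    induction r with
    | zero => exact fun _ => hy'
    | succ r ih =>
      intro hr h
      rw [Function.iterate_succ_apply'] at h
      set v := (inner s)^[r] y
      refine d.exact c (j := r + 1) (by omega) (by omega) (hE s r) (ih (by omega)) ?_
      rw [show ⁅s, v⁆ = v * inner s v * v⁻¹ by rw [inner, commutatorElement_def]; group]
      exact Subgroup.Normal.conj_mem (c.normal _) _ h _
  let Top : G := (inner s)^[p - 1] y
  have hTop : Top ≠ 1 := fun e => hlev (p - 1) (by omega) (by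
    rw [show (inner s)^[p - 1] y = 1 from e]; exact one_mem _)
  have hscale : ∀ (i r : ℕ), ∃ w ∈ T (r + 2), (inner (s ^ i))^[r] y = ((inner s)^[r] y) ^ (i ^ r) * w := by
    intro i r
    induction r with
    | zero => exact ⟨1, one_mem _, by simp⟩
    | succ r ih =>
      obtain ⟨w, hw, he⟩ := ih
      set π := QuotientGroup.mk' (T (r + 3))
      set v := (inner s)^[r] y
      have hcen : ∀ {z : G}, z ∈ T (r + 2) → ∀ g, Commute (π z) (π g) := fun {z} hz g =>
        commute_mk.2 (comm_mem_symm.1 (c.mem_step (by omega) hz g))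
      have hmul : ∀ x a b, a ∈ T (r + 1) → b ∈ T (r + 1) →
          π (inner x (a * b)) = π (inner x a) * π (inner x b) := fun x a b ha _ => by
        rw [show inner x (a * b) = b⁻¹ * inner x a * (x * b * x⁻¹) by simp only [inner]; group, map_mul, map_mul,
          show π b⁻¹ * π (inner x a) = π (inner x a) * π b⁻¹ from
            ((hcen (hstep x (by omega) ha) b⁻¹).symm).eq, mul_assoc, ← map_mul, ← inner]
      have hpow : ∀ x k, π (inner x (v ^ k)) = π (inner x v) ^ k := fun x k => by
        induction k with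
        | zero => simp [inner]
        | succ k ihk => rw [pow_succ, hmul x _ _ (pow_mem (hE s r) k) (hE s r), ihk, pow_succ]
      have hleft : ∀ k : ℕ, π (inner (s ^ k) v) = π (inner s v) ^ k := fun k => by
        induction k with
        | zero => simp [inner]
        | succ k ihk =>
          rw [show inner (s ^ (k + 1)) v = inner (s ^ k) v * (s ^ k * inner s v * (s ^ k)⁻¹) by
            simp only [inner, pow_succ]; group, map_mul, map_mul, map_mul, ihk,
            ← (hcen (hstep s (by omega) (hE s r)) (s ^ k)).eq, map_inv, mul_inv_cancel_right, pow_succ]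
      have hwz : π (inner (s ^ i) w) = 1 := (QuotientGroup.eq_one_iff _).2 (hstep _ (by omega) hw)
      rw [Function.iterate_succ_apply', Function.iterate_succ_apply', he]
      refine ⟨(inner s v ^ (i ^ (r + 1)))⁻¹ * inner (s ^ i) (v ^ i ^ r * w), QuotientGroup.eq.1 ?_,
        (mul_inv_cancel_left _ _).symm⟩
      show π (inner s v ^ i ^ (r + 1)) = π (inner (s ^ i) (v ^ i ^ r * w))
      rw [hmul _ _ _ (pow_mem (hE s r) _) (c.anti (by omega) hw), hwz, mul_one, hpow, hleft, ← pow_mul,
        map_pow, pow_succ']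
  have htopi : ∀ i : ℕ, (inner (s ^ i))^[p - 1] y = Top ^ (i ^ (p - 1)) := fun i => by
    obtain ⟨w, hw, he⟩ := hscale i (p - 1)
    rw [he, c.eq_one (by omega) hw, mul_one]
  -- the filtration
  let L : ℕ → Subgroup G := fun w => T (w + 1)
  have hL : CfsgLib.PolyProd.Filt (p - 1) L :=
    ⟨fun a b hab => c.anti (by omega), fun w hw => c.bot _ (by omega),
      fun i j => (add_all c (by omega) (by omega)).trans (c.anti (by omega))⟩
  have hdiff : ∀ (x : G) (r : ℕ), CfsgLib.PolyProd.diff^[r] (fun b => x ^ b * y * (x ^ b)⁻¹) =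
      fun b => x ^ b * (inner x)^[r] y * (x ^ b)⁻¹ := fun x r => by
    induction r with
    | zero => rfl
    | succ r ih =>
      rw [Function.iterate_succ_apply', ih, Function.iterate_succ_apply']
      funext b
      simp only [CfsgLib.PolyProd.diff, inner, pow_succ]
      group
  have hterm : ∀ x : G, CfsgLib.PolyProd.Poly L 0 (fun b => x ^ b * y * (x ^ b)⁻¹) := fun x r m => by
    rw [hdiff x r, Nat.zero_add]
    exact Subgroup.Normal.conj_mem (c.normal _) _ (hE x r) _
  let φ : ℕ → ℕ → G := fun m b => (y * s ^ b) ^ m * ((s ^ b) ^ m)⁻¹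
  have hφsucc : ∀ m, φ (m + 1) = φ m * fun b => (s ^ m) ^ b * y * ((s ^ m) ^ b)⁻¹ := fun m => funext fun b => by
    show (y * s ^ b) ^ (m + 1) * ((s ^ b) ^ (m + 1))⁻¹ =
      (y * s ^ b) ^ m * ((s ^ b) ^ m)⁻¹ * ((s ^ m) ^ b * y * ((s ^ m) ^ b)⁻¹)
    rw [pow_succ (y * s ^ b), pow_succ' (s ^ b), show (s ^ m) ^ b = (s ^ b) ^ m by rw [← pow_mul, ← pow_mul, mul_comm]]
    group
  have hkey : ∀ m, m ≤ p → CfsgLib.PolyProd.Poly L 0 (φ m) ∧
      CfsgLib.PolyProd.diff^[p - 1] (φ m) 0 = Top ^ (∑ i ∈ Finset.range m, i ^ (p - 1)) := by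
    intro m
    induction m with
    | zero =>
      intro _
      have e : φ 0 = 1 := funext fun b => by simp [φ]
      rw [e, Finset.sum_range_zero, pow_zero, Function.iterate_fixed CfsgLib.PolyProd.diff_one]
      exact ⟨CfsgLib.PolyProd.poly_one 0, rfl⟩
    | succ m ih =>
      intro hm
      obtain ⟨h1, h2⟩ := ih (by omega)
      rw [hφsucc]
      refine ⟨CfsgLib.PolyProd.poly_mul hL h1 (hterm _), ?_⟩
      rw [CfsgLib.PolyProd.top_mul hL h1 (hterm _), h2, hdiff, htopi, Finset.sum_range_succ, pow_add]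
      simp
  obtain ⟨-, hk⟩ := hkey p le_rfl
  have e1 : φ p = 1 := funext fun b => by simp [φ, hexp]
  rw [e1, Function.iterate_fixed CfsgLib.PolyProd.diff_one, Pi.one_apply] at hk
  have hord : orderOf Top = p := orderOf_eq_prime (hexp _) hTop
  have hdvd := orderOf_dvd_of_pow_eq_one hk.symm
  rw [hord, ← CharP.cast_eq_zero_iff (ZMod p) p, Nat.cast_sum] at hdvd
  have hsum : ∀ i ∈ Finset.range p, ((i ^ (p - 1) : ℕ) : ZMod p) = 1 - if i = 0 then 1 else 0 := by
    intro i hi
    rw [Nat.cast_pow]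
    split_ifs with h
    · subst h
      rw [Nat.cast_zero, zero_pow (by omega), sub_self]
    · rw [sub_zero]
      refine ZMod.pow_card_sub_one_eq_one fun e => ?_
      have := Nat.le_of_dvd (by omega) ((CharP.cast_eq_zero_iff (ZMod p) p _).1 e)
      have := Finset.mem_range.1 hi
      omega
  rw [Finset.sum_congr rfl hsum, Finset.sum_sub_distrib, Finset.sum_ite_eq' (Finset.range p) 0,
    if_pos (Finset.mem_range.2 (by omega)), Finset.sum_const, Finset.card_range, nsmul_one, ZMod.natCast_self,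
    zero_sub, neg_eq_zero] at hdvd
  exact one_ne_zero hdvd

/-- The counting. -/
theorem card_le_powers {G : Type u} [Group G] [Finite G] {T : ℕ → Subgroup G} (c : Chain p n T) {s : G}
    (d : SeedC p s) (hn : p + 2 ≤ n) (H K : Subgroup G) (hK : ∀ h ∈ H, h ^ p ∈ K) :
    Nat.card H ≤ Nat.card K * p ^ p := by
  have hp2 := hp.out.two_le
  have hG := IsPGroup.of_card c.hG
  haveI : ∀ j, (T j).Normal := c.normal
  have hstep : ∀ j, j < n → Nat.card ↥(H ⊓ T j) ≤ p * Nat.card ↥(H ⊓ T (j + 1)) := by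
    intro j hj
    set π := QuotientGroup.mk' (T (j + 1))
    have e := Subgroup.relIndex_ker (H ⊓ T j) π
    rw [QuotientGroup.ker_mk'] at e
    have e2 : Nat.card ↥(T (j + 1) ⊓ (H ⊓ T j)) * (T (j + 1)).relIndex (H ⊓ T j) = Nat.card ↥(H ⊓ T j) := by
      rw [← Subgroup.inf_relIndex_right (T (j + 1)) (H ⊓ T j), ← Subgroup.relIndex_bot_left,
        ← Subgroup.relIndex_bot_left]
      exact Subgroup.relIndex_mul_relIndex _ _ _ bot_le inf_le_right
    have e3 := card_map_mk (c.anti (Nat.le_succ j))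
    rw [c.card (j + 1) hj, c.card j hj.le, show n - j = n - (j + 1) + 1 by omega, pow_succ] at e3
    have e4 : Nat.card ((T j).map π) = p := Nat.eq_of_mul_eq_mul_left (pow_pos hp.out.pos _) e3
    rw [← e2, e, mul_comm p]
    exact Nat.mul_le_mul (Subgroup.card_le_of_le (le_inf (inf_le_right.trans inf_le_left) inf_le_left))
      ((Subgroup.card_le_of_le (Subgroup.map_mono inf_le_right)).trans e4.le)
  have key : ∀ m j, n + 1 - p ≤ j + m → 1 ≤ j → j ≤ n + 1 - p →
      Nat.card ↥(H ⊓ T j) ≤ Nat.card ↥(K ⊓ T (j + (p - 1))) * p ^ (p - 1) := by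
    intro m
    induction m with
    | zero =>
      intro j hjm hj1 hj2
      refine (Subgroup.card_le_of_le inf_le_right).trans ?_
      rw [c.card j (by omega), show n - j = p - 1 by omega]
      exact Nat.le_mul_of_pos_left _ Nat.card_pos
    | succ m ih =>
      intro j hjm hj1 hj2
      rcases Nat.lt_or_ge j (n + 1 - p) with hlt | hge
      swap
      · refine (Subgroup.card_le_of_le inf_le_right).trans ?_
        rw [c.card j (by omega), show n - j = p - 1 by omega]
        exact Nat.le_mul_of_pos_left _ Nat.card_pos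
      have h := ih (j + 1) (by omega) (by omega) (by omega)
      have hmono : T (j + 1 + (p - 1)) ≤ T (j + (p - 1)) := c.anti (by omega)
      by_cases hsub : H ⊓ T j ≤ T (j + 1)
      · exact ((Subgroup.card_le_of_le (le_inf inf_le_left hsub)).trans h).trans
          (Nat.mul_le_mul_right _ (Subgroup.card_le_of_le (inf_le_inf_left K hmono)))
      · obtain ⟨x, ⟨hxH, hxj⟩, hx'⟩ := SetLike.not_le_iff_exists.1 hsub
        obtain ⟨g1, g2⟩ := d.pow_level c hn hj1 (by omega) hxj hx'
        have hlt' : Nat.card ↥(K ⊓ T (j + 1 + (p - 1))) * p ≤ Nat.card ↥(K ⊓ T (j + (p - 1))) := by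
          refine Cfsg.Agent.S4143.card_mul_le_of_lt hG (inf_le_inf_left K hmono) fun e => g2 ?_
          rw [show j + (p - 1) + 1 = j + 1 + (p - 1) by omega]
          exact (e.ge ⟨hK x hxH, g1⟩).2
        calc Nat.card ↥(H ⊓ T j) ≤ p * Nat.card ↥(H ⊓ T (j + 1)) := hstep j (by omega)
          _ ≤ p * (Nat.card ↥(K ⊓ T (j + 1 + (p - 1))) * p ^ (p - 1)) := Nat.mul_le_mul_left p h
          _ = Nat.card ↥(K ⊓ T (j + 1 + (p - 1))) * p * p ^ (p - 1) := by ring
          _ ≤ _ := Nat.mul_le_mul_right _ hlt'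
  have h1 := key n 1 (by omega) le_rfl (by omega)
  have h0 := hstep 0 (by omega)
  rw [c.zero, inf_top_eq] at h0
  calc Nat.card H ≤ p * Nat.card ↥(H ⊓ T (0 + 1)) := h0
    _ ≤ p * (Nat.card K * p ^ (p - 1)) :=
        Nat.mul_le_mul_left p (h1.trans (Nat.mul_le_mul_right _ (Subgroup.card_le_of_le inf_le_left)))
    _ = Nat.card K * p ^ p := by
      conv_rhs => rw [show p = p - 1 + 1 by omega, pow_succ]
      rw [show p - 1 + 1 = p by omega]
      ring

/-- In a group of maximal class every level below the centre is moved. -/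
theorem moves_of_lcs {G : Type u} [Group G] [Finite G] {T : ℕ → Subgroup G} (c : Chain p n T)
    (hlcs : ∀ j, 2 ≤ j → T j = (⊤ : Subgroup G).lowerCentralSeries (j - 1)) : Moves n T := by
  have hp2 := hp.out.two_le
  have hcard : ∀ j, j + 1 ≤ n → ¬ T j ≤ T (j + 1) := fun j hj h => by
    have := Subgroup.card_le_of_le h
    rw [c.card j (by omega), c.card (j + 1) hj, Nat.pow_le_pow_iff_right hp.out.one_lt] at this
    omega
  intro j hj1 hj2
  by_contra hcon
  push Not at hcon
  haveI := c.normal (j + 2)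
  rcases Nat.lt_or_ge j 2 with h | h
  · obtain rfl : j = 1 := by omega
    refine hcard 2 (by omega) ?_
    rw [hlcs 2 le_rfl, Subgroup.lowerCentralSeries_succ, Subgroup.lowerCentralSeries_zero, Subgroup.commutator_le]
    obtain ⟨s, hs, hs'⟩ := c.exists_level (j := 0) (by omega)
    intro a _ b _
    obtain ⟨i, -, v, hv, rfl⟩ := c.gen (show 0 < n by omega) hs hs' (c.zero ▸ Subgroup.mem_top a)
    obtain ⟨k, -, w, hw, rfl⟩ := c.gen (show 0 < n by omega) hs hs' (c.zero ▸ Subgroup.mem_top b)
    have hc : ∀ g, ∀ u ∈ T 1, Commute (QuotientGroup.mk' (T 3) g) (QuotientGroup.mk' (T 3) u) :=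
      fun g u hu => commute_mk.2 (hcon g u hu)
    rw [← commute_mk, map_mul _ (s ^ i), map_mul _ (s ^ k)]
    refine Commute.mul_left (Commute.mul_right ?_ (hc _ w hw)) (((hc _ v hv).symm).mul_right (hc v w hw))
    rw [map_pow, map_pow]
    exact (Commute.refl _).pow_pow i k
  · refine hcard (j + 1) (by omega) ?_
    rw [hlcs (j + 1) (by omega), show j + 1 - 1 = j - 1 + 1 by omega, Subgroup.lowerCentralSeries_succ,
      Subgroup.commutator_le]
    intro u hu g _
    rw [← hlcs j h] at hu
    exact comm_mem_symm.1 (hcon g u hu)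

end CfsgLib.MaxPearlC
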