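import Cfsg.Agent.MaxPearl.PowersP

/-!
`p`-groups of maximal class: `p`-th powers move the chain exactly `p - 1` steps as soon as some element
has centralizer of order `p²` (no condition on the order of that element).
-/

set_option autoImplicit false
set_option linter.style.haveILetI false

open scoped commutatorElement

namespace CfsgLib.MaxPearlC

open CfsgLib.MaxPearl

variable {G : Type*} [Group G] [Finite G] {p n : ℕ} [hp : Fact p.Prime] {T : ℕ → Subgroup G} {s : G}

/-- An element with centralizer of order `p²`. -/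
structure SeedC (p : ℕ) (s : G) : Prop where
  cent : Nat.card ↥(Subgroup.centralizer {s}) = p ^ 2

theorem SeedC.not_mem_one (c : Chain p n T) (d : SeedC p s) : s ∉ T 1 := fun hs => by
  have h4 := c.h4
  have h := card_le_mul_centralizer (D := T 1) (N := T 4) fun x hx => c.comm_one hx hs
  have h9 : Nat.card ↥(T 1 ⊓ Subgroup.centralizer {s}) ≤ p ^ 2 :=
    (Subgroup.card_le_of_le inf_le_right).trans d.cent.le
  rw [c.card 1 (by omega), c.card 4 h4] at h
  have := (Nat.pow_le_pow_iff_right hp.out.one_lt).1 ((h.trans (Nat.mul_le_mul_left _ h9)).trans_eq (pow_add p _ _).symm)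
  omega

theorem SeedC.centralizer_inf (c : Chain p n T) (d : SeedC p s) {j : ℕ} (hj : 1 ≤ j) :
    Nat.card ↥(T j ⊓ Subgroup.centralizer {s}) ≤ p := by
  obtain ⟨i, hi, he⟩ := (Nat.dvd_prime_pow hp.out).1
    ((Subgroup.card_dvd_of_le (inf_le_right : T j ⊓ Subgroup.centralizer {s} ≤ _)).trans d.cent.dvd)
  rcases Nat.lt_or_ge i 2 with h | h
  · rw [he]; exact (Nat.pow_le_pow_right hp.out.pos (Nat.lt_succ_iff.1 h)).trans (pow_one p).le
  · have e := Subgroup.eq_of_le_of_card_ge (inf_le_right : T j ⊓ Subgroup.centralizer {s} ≤ _)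
      (by rw [d.cent, he, le_antisymm hi h])
    exact absurd (c.anti hj ((e.ge (Subgroup.mem_centralizer_singleton_iff.2 rfl)).1)) (d.not_mem_one c)

/-- The `p`-th power of a seed is central. -/
theorem SeedC.pow_central (c : Chain p n T) (d : SeedC p s) (g : G) : Commute g (s ^ p) := by
  have h4 := c.h4
  have h1 : s ^ p ∈ T 1 ⊓ Subgroup.centralizer {s} :=
    ⟨c.pow_mem_succ 0 (c.zero ▸ Subgroup.mem_top s),
      Subgroup.mem_centralizer_singleton_iff.2 (Commute.pow_self s p).eq⟩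
  have hle : T (n - 1) ≤ T 1 ⊓ Subgroup.centralizer {s} := fun z hz => by
    refine ⟨c.anti (by omega) hz, Subgroup.mem_centralizer_singleton_iff.2 ?_⟩
    have h : ⁅s, z⁆ = 1 := c.eq_one (by omega) (c.mem_step (by omega) hz s)
    exact (commutatorElement_eq_one_iff_mul_comm.1 h).symm
  have he := Subgroup.eq_of_le_of_card_ge hle (by
    rw [c.card (n - 1) (by omega), show n - (n - 1) = 1 by omega, pow_one]
    exact d.centralizer_inf c le_rfl)
  have h : ⁅g, s ^ p⁆ = 1 := c.eq_one (by omega) (c.mem_step (by omega) (he.ge h1) g)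
  exact commutatorElement_eq_one_iff_mul_comm.1 h

/-- Commutation with the seed moves every level exactly one step. -/
theorem SeedC.exact (c : Chain p n T) (d : SeedC p s) {j : ℕ} (hj : 1 ≤ j) (hjn : j + 2 ≤ n) {u : G} (hu : u ∈ T j)
    (hu' : u ∉ T (j + 1)) : ⁅s, u⁆ ∉ T (j + 2) := fun h => by
  haveI := c.normal (j + 2)
  have hall : ∀ x ∈ T j, ⁅x, s⁆ ∈ T (j + 2) := fun x hx => by
    obtain ⟨k, -, w, hw, rfl⟩ := c.gen (by omega) hu hu' hx
    rw [← commute_mk, map_mul, map_pow]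
    exact ((commute_mk.2 h).symm.pow_left k).mul_left
      (commute_mk.2 (comm_mem_symm.1 (c.mem_step (by omega) hw s)))
  have h1 := (card_le_mul_centralizer hall).trans (Nat.mul_le_mul_left _ (d.centralizer_inf c hj))
  rw [c.card j (by omega), c.card (j + 2) hjn, ← pow_succ] at h1
  have := (Nat.pow_le_pow_iff_right hp.out.one_lt).1 h1
  omega

/-- Every element of `γ₂ s` is conjugate to `s`, hence has the same `p`-th power. -/
theorem SeedC.pow_mul (c : Chain p n T) (d : SeedC p s) {y : G} (hy : y ∈ T 2) : (y * s) ^ p = s ^ p := by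
  haveI := c.normal 2
  have h4 := c.h4
  have hmem : ∀ g : G, ⁅g, s⁆ ∈ T 2 := fun g => by
    obtain ⟨k, -, w, hw, rfl⟩ := c.gen (j := 0) (by omega) (u := s) (c.zero ▸ Subgroup.mem_top s) (d.not_mem_one c)
      (c.zero ▸ Subgroup.mem_top g)
    rw [← commute_mk, map_mul, map_pow]
    exact ((Commute.refl _).pow_left k).mul_left (commute_mk.2 (comm_mem_symm.1 (c.mem_step le_rfl hw s)))
  have hinj : Function.Injective (fun q : G ⧸ Subgroup.centralizer {s} => (⟨⁅q.out, s⁆, hmem _⟩ : T 2)) := by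
    intro q r e
    rw [← q.out_eq', ← r.out_eq', QuotientGroup.eq, Subgroup.mem_centralizer_singleton_iff]
    have e' : ⁅q.out, s⁆ = ⁅r.out, s⁆ := congrArg Subtype.val e
    rw [commutatorElement_def, commutatorElement_def, mul_left_inj] at e'
    calc q.out⁻¹ * r.out * s = q.out⁻¹ * (r.out * s * r.out⁻¹) * r.out := by group
      _ = q.out⁻¹ * (q.out * s * q.out⁻¹) * r.out := by rw [e']
      _ = s * (q.out⁻¹ * r.out) := by group
  have hcard : Nat.card (G ⧸ Subgroup.centralizer {s}) = Nat.card (T 2) := by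
    have h := Subgroup.card_eq_card_quotient_mul_card_subgroup (Subgroup.centralizer {s})
    rw [c.hG, d.cent, show n = n - 2 + 2 by omega, pow_add] at h
    rw [c.card 2 (by omega)]
    exact (Nat.eq_of_mul_eq_mul_right (pow_pos hp.out.pos 2) h).symm
  obtain ⟨q, hq⟩ := ((Nat.bijective_iff_injective_and_card _).2 ⟨hinj, hcard⟩).2 ⟨y, hy⟩
  have hy' : ⁅q.out, s⁆ = y := congrArg Subtype.val hq
  rw [← hy', show ⁅q.out, s⁆ * s = q.out * s * q.out⁻¹ by rw [commutatorElement_def]; group, conj_pow,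
    (d.pow_central c q.out).eq, mul_assoc, mul_inv_cancel, mul_one]

theorem SeedC.iter_level (c : Chain p n T) (d : SeedC p s) {y : G} {k : ℕ} (hk : 1 ≤ k) (hy : y ∈ T k)
    (hy' : y ∉ T (k + 1)) : ∀ r, k + r < n → (fun z => ⁅s, z⁆)^[r] y ∉ T (k + r + 1) := by
  intro r
  induction r with
  | zero => exact fun _ => hy'
  | succ r ih =>
    intro hr
    rw [Function.iterate_succ_apply']
    exact d.exact c (j := k + r) (by omega) (by omega) (CfsgLib.MaxPearlP.iter_mem c s hk hy r) (ih (by omega))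

/-- The power relation on `γ_k`, `k ≥ 2`. -/
theorem SeedC.pow_spec (c : Chain p n T) (d : SeedC p s) : ∀ (m k : ℕ), n ≤ k + m → 2 ≤ k → ∀ y ∈ T k,
    y ^ p * (fun z => ⁅s, z⁆)^[p - 1] y ∈ T (k + p) := by
  intro m
  induction m with
  | zero =>
    intro k hk h2 y hy
    rw [c.eq_one (by omega) hy, one_pow, one_mul]
    exact c.anti (by omega) (c.eq_one (j := k + (p - 1)) (by omega) (CfsgLib.MaxPearlP.iter_mem c s (by omega) (one_mem (T k)) (p - 1)) ▸
      one_mem (T (k + p)))
  | succ m ih =>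
    intro k hk h2 y hy
    have hT : ∀ z ∈ T (k + 1), z ^ p ∈ T (k + p) := fun z hz => by
      have h1 := c.anti (show k + p ≤ k + 1 + p by omega) (ih (k + 1) (by omega) (by omega) z hz)
      have h3 := c.anti (show k + p ≤ k + 1 + (p - 1) by omega) (CfsgLib.MaxPearlP.iter_mem c s (by omega) hz (p - 1))
      exact (Subgroup.mul_mem_cancel_right _ h3).1 h1
    have h := CfsgLib.MaxPearlP.mul_pow_mod c h2 hT (x := s) hy
    rwa [d.pow_mul c (c.anti h2 hy), mul_inv_rev, mul_assoc,
      (d.pow_central c _).eq, inv_mul_cancel_left, Subgroup.inv_mem_iff] at h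

theorem SeedC.pow_mem_two (c : Chain p n T) (d : SeedC p s) {k : ℕ} (hk : 2 ≤ k) {y : G} (hy : y ∈ T k) :
    y ^ p ∈ T (k + (p - 1)) :=
  (Subgroup.mul_mem_cancel_right _ (CfsgLib.MaxPearlP.iter_mem c s (by omega) hy (p - 1))).1
    (c.anti (by omega) (d.pow_spec c n k (by omega) hk y hy))

theorem SeedC.pow_not_mem_two (c : Chain p n T) (d : SeedC p s) {k : ℕ} (hk : 2 ≤ k) (hkn : k + p ≤ n) {y : G}
    (hy : y ∈ T k) (hy' : y ∉ T (k + 1)) : y ^ p ∉ T (k + p) := fun h => by
  have hp2 := hp.out.two_le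
  refine d.iter_level c (by omega) hy hy' (p - 1) (by omega) ?_
  rw [show k + (p - 1) + 1 = k + p by omega]
  exact (Subgroup.mul_mem_cancel_left _ h).1 (d.pow_spec c n k (by omega) hk y hy)

theorem SeedC.pow_one_level (c : Chain p n T) (d : SeedC p s) (hn : p + 2 ≤ n) {y : G} (hy : y ∈ T 1)
    (hy' : y ∉ T 2) : y ^ p ∈ T p ∧ y ^ p ∉ T (p + 1) := by
  have hp2 := hp.out.two_le
  haveI := c.normal (2 + p)
  set a := ⁅s, y⁆ with ha_def
  have ha : a ∈ T 2 := c.mem_step le_rfl hy s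
  have ha' : a ∉ T 3 := d.exact c le_rfl (by omega) hy hy'
  have hT : ∀ z ∈ T (2 + 1), z ^ p ∈ T (2 + p) := fun z hz => by
    have := d.pow_mem_two c (by norm_num) hz
    rwa [show 2 + 1 + (p - 1) = 2 + p by omega] at this
  have hit : (fun z => ⁅y, z⁆)^[p - 1] a ∈ T (2 + p) := by
    obtain ⟨q, hq⟩ : ∃ q, p - 1 = q + 1 := ⟨p - 2, by omega⟩
    rw [hq, Function.iterate_succ_apply]
    exact c.anti (show 2 + p ≤ 4 + q by omega)
      (CfsgLib.MaxPearlP.iter_mem c y (by norm_num) (c.def12 (Subgroup.commutator_mem_commutator hy ha)) q)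
  have h1 := CfsgLib.MaxPearlP.mul_pow_mod c le_rfl hT (x := y) ha
  set π := QuotientGroup.mk' (T (2 + p))
  have h2 : π ⁅s, y ^ p⁆ = π (a ^ p) := by
    have e : π ((a * y) ^ p) = π (a ^ p) * π (y ^ p) := by
      have h3 := QuotientGroup.eq.2 h1
      rw [← QuotientGroup.mk'_apply, ← QuotientGroup.mk'_apply, map_mul, map_mul,
        show π ((fun z => ⁅y, z⁆)^[p - 1] a) = 1 from (QuotientGroup.eq_one_iff _).2 hit, mul_one] at h3
      exact h3.symm
    have e2 : ⁅s, y ^ p⁆ = (a * y) ^ p * (y ^ p)⁻¹ := by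
      rw [commutatorElement_def, ← conj_pow, ha_def, commutatorElement_def, inv_mul_cancel_right]
    rw [e2, map_mul, map_inv, e, mul_inv_cancel_right]
  have hmem : ⁅s, y ^ p⁆ ∈ T (p + 1) := by
    have h3 : (a ^ p)⁻¹ * ⁅s, y ^ p⁆ ∈ T (2 + p) := QuotientGroup.eq.1 h2.symm
    have h4 : a ^ p ∈ T (p + 1) := c.anti (by omega) (d.pow_mem_two c le_rfl ha)
    exact (Subgroup.mul_mem_cancel_left _ ((T (p + 1)).inv_mem h4)).1 (c.anti (by omega) h3)
  have hnot : ⁅s, y ^ p⁆ ∉ T (p + 2) := fun h => by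
    refine d.pow_not_mem_two c le_rfl (by omega) ha ha' ((QuotientGroup.eq_one_iff _).1 ?_)
    rw [← QuotientGroup.mk'_apply, ← h2]
    exact (QuotientGroup.eq_one_iff _).2 (c.anti (by omega) h)
  have hne : y ^ p ≠ 1 := fun e => hnot (by rw [e, commutatorElement_one_right]; exact one_mem _)
  obtain ⟨j, hj, hj1, hj2⟩ := c.level hne
  have hj0 : 1 ≤ j := by
    by_contra h0
    obtain rfl : j = 0 := by omega
    exact hj2 (Subgroup.pow_mem _ hy p)
  rcases Nat.lt_or_ge (j + 1) n with hjn | hjn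
  swap
  · exact absurd (c.eq_one hjn (c.mem_step hj0 hj1 s) ▸ one_mem _) hnot
  have hex := d.exact c hj0 (by omega) hj1 hj2
  have e1 : j ≤ p := by
    by_contra h
    exact hnot (c.anti (by omega) (c.mem_step hj0 hj1 s))
  have e2 : p ≤ j := by
    by_contra h
    exact hex (c.anti (by omega) hmem)
  obtain rfl : j = p := by omega
  exact ⟨hj1, hj2⟩

/-- `p`-th powers move every level exactly `p - 1` steps. -/
theorem SeedC.pow_level (c : Chain p n T) (d : SeedC p s) (hn : p + 2 ≤ n) {j : ℕ} (hj : 1 ≤ j) (hjn : j + p ≤ n)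
    {y : G} (hy : y ∈ T j) (hy' : y ∉ T (j + 1)) : y ^ p ∈ T (j + (p - 1)) ∧ y ^ p ∉ T (j + (p - 1) + 1) := by
  have hp2 := hp.out.two_le
  rw [show j + (p - 1) + 1 = j + p by omega]
  rcases Nat.lt_or_ge j 2 with h | h
  · obtain rfl : j = 1 := by omega
    rw [show 1 + (p - 1) = p by omega, show 1 + p = p + 1 by omega]
    exact d.pow_one_level c hn hy hy'
  · exact ⟨d.pow_mem_two c h hy, d.pow_not_mem_two c h hjn hy hy'⟩

end CfsgLib.MaxPearlC
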