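import Cfsg.Agent.MaxPearl.PowersP
import Mathlib

/-!
A group of maximal class of order more than `p ^ (2 k)` with `k + 2 ≤ p` has an elementary abelian section of
order `p ^ (k + 1)`.
-/

set_option autoImplicit false
set_option linter.style.haveILetI false

open scoped commutatorElement

namespace CfsgLib.MaxClassSection

open CfsgLib.MaxPearl

variable {G : Type*} [Group G] [Finite G] {p n : ℕ} [hp : Fact p.Prime] {T : ℕ → Subgroup G}

/-- `s` commutes with the `j`th layer modulo the next but one. -/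
def LayerTriv (T : ℕ → Subgroup G) (j : ℕ) (s : G) : Prop := ∀ u ∈ T j, ⁅s, u⁆ ∈ T (j + 2)

theorem layer_subgroup (c : Chain p n T) (j : ℕ) :
    ∃ C : Subgroup G, ∀ s, s ∈ C ↔ LayerTriv T j s := by
  haveI := c.normal (j + 2)
  refine ⟨(Subgroup.centralizer (((T j).map (QuotientGroup.mk' (T (j + 2)))) : Set (G ⧸ T (j + 2)))).comap
    (QuotientGroup.mk' (T (j + 2))), fun s => ?_⟩
  rw [Subgroup.mem_comap, Subgroup.mem_centralizer_iff]
  constructor
  · exact fun h u hu => commute_mk.1 (h _ ⟨u, hu, rfl⟩).symm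
  · rintro h _ ⟨u, hu, rfl⟩
    exact (commute_mk.2 (h u hu)).symm.eq

theorem exists_not_layer (c : Chain p n T) (hT : ∀ j, 2 ≤ j → T j = (⊤ : Subgroup G).lowerCentralSeries (j - 1))
    {j : ℕ} (hj : 1 ≤ j) (hjn : j + 2 ≤ n) : ∃ s, ¬ LayerTriv T j s := by
  haveI := c.normal (j + 2)
  by_contra hall
  simp only [not_exists, not_not] at hall
  obtain ⟨u, hu, hu'⟩ := c.exists_level (j := j + 1) (by omega)
  refine hu' ?_
  have hle : (⊤ : Subgroup G).lowerCentralSeries j ≤ T (j + 2) := by
    rcases Nat.lt_or_ge 1 j with h | h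
    · rw [show j = j - 1 + 1 by omega, Subgroup.lowerCentralSeries_succ, ← hT j h, Subgroup.commutator_le]
      intro x hx g _
      rw [show j - 1 + 1 + 2 = j + 2 by omega]
      exact comm_mem_symm.1 (hall g x hx)
    · obtain rfl : j = 1 := le_antisymm h hj
      obtain ⟨w, hw, hw'⟩ := c.exists_level (j := 0) (by omega)
      rw [Subgroup.lowerCentralSeries_succ, Subgroup.lowerCentralSeries_zero, Subgroup.commutator_le]
      have hdec : ∀ g : G, ∃ (m : ℕ) (v : G), v ∈ T 1 ∧ g = w ^ m * v := fun g => by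
        obtain ⟨m, -, v, hv, e⟩ := c.gen (by omega) hw hw' (x := g) (c.zero ▸ Subgroup.mem_top g)
        exact ⟨m, v, hv, e⟩
      intro a _ b _
      obtain ⟨m, v, hv, rfl⟩ := hdec a
      obtain ⟨m', v', hv', rfl⟩ := hdec b
      rw [← commute_mk, map_mul, map_mul, map_pow, map_pow]
      have h1 : ∀ g, ∀ z ∈ T 1, Commute (QuotientGroup.mk' (T (1 + 2)) g) (QuotientGroup.mk' _ z) :=
        fun g z hz => commute_mk.2 (hall g z hz)
      exact (((Commute.refl _).pow_pow m m').mul_right ((h1 _ _ hv').pow_left m)).mul_left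
        (((h1 _ _ hv).symm.pow_right m').mul_right (h1 v v' hv'))
  rw [hT (j + 1) (by omega), show j + 1 - 1 = j by omega] at hu
  exact hle hu

theorem exists_nondeg (c : Chain p n T) (hT : ∀ j, 2 ≤ j → T j = (⊤ : Subgroup G).lowerCentralSeries (j - 1))
    (J : Finset ℕ) (hJc : J.card ≤ p) (hJ : ∀ j ∈ J, 1 ≤ j ∧ j + 2 ≤ n) :
    ∃ s, ∀ j ∈ J, ¬ LayerTriv T j s := by
  classical
  haveI := Fintype.ofFinite G
  choose C hC using layer_subgroup c
  let B : Finset G := J.biUnion fun j => Finset.univ.filter fun s => s ∈ C j ∧ s ≠ 1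
  have hpn : p * p ^ (n - 1) = p ^ n := by
    rw [← pow_succ', show n - 1 + 1 = n by have := c.h4; omega]
  have hone : ∀ j ∈ J, (Finset.univ.filter fun s => s ∈ C j ∧ s ≠ 1).card + 1 ≤ p ^ (n - 1) := by
    intro j hj
    have hlt : C j ≠ ⊤ := by
      obtain ⟨s, hs⟩ := exists_not_layer c hT (hJ j hj).1 (hJ j hj).2
      exact fun e => hs ((hC j s).1 (e ▸ Subgroup.mem_top s))
    obtain ⟨e, he, hce⟩ := (Nat.dvd_prime_pow hp.out).1 (c.hG ▸ (C j).card_subgroup_dvd_card)
    have hne : e ≠ n := by
      intro h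
      exact hlt (Subgroup.eq_top_of_card_eq _ (by rw [hce, h, c.hG]))
    have h1 : (Finset.univ.filter fun s => s ∈ C j ∧ s ≠ 1).card + 1 = Nat.card (C j) := by
      rw [← Finset.card_insert_of_notMem (s := Finset.univ.filter fun s => s ∈ C j ∧ s ≠ 1) (a := 1) (by simp),
        Nat.card_eq_fintype_card, Fintype.card_subtype]
      congr 1
      ext s
      by_cases hs : s = 1 <;> simp [hs]
    rw [h1, hce]
    exact Nat.pow_le_pow_right hp.out.pos (by omega)
  have hBcard : B.card < (Finset.univ.erase (1 : G)).card := by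
    rw [Finset.card_erase_of_mem (Finset.mem_univ _), Finset.card_univ, ← Nat.card_eq_fintype_card, c.hG]
    have h := Finset.card_biUnion_le_card_mul J (fun j => Finset.univ.filter fun s => s ∈ C j ∧ s ≠ 1)
      (p ^ (n - 1) - 1) fun j hj => by have := hone j hj; omega
    have h2 : J.card * (p ^ (n - 1) - 1) ≤ p * (p ^ (n - 1) - 1) := Nat.mul_le_mul_right _ hJc
    rw [Nat.mul_sub, Nat.mul_sub, hpn, mul_one, mul_one] at h2
    rw [Nat.mul_sub, mul_one] at h
    have h' : B.card ≤ J.card * p ^ (n - 1) - J.card := h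
    have hp2 := hp.out.two_le
    have : p ≤ p ^ n := Nat.le_self_pow (by have := c.h4; omega) p
    omega
  obtain ⟨s, hs, hsB⟩ := Finset.not_subset.1 fun h => absurd (Finset.card_le_card h) (not_le.2 hBcard)
  refine ⟨s, fun j hj hl => hsB ?_⟩
  exact Finset.mem_biUnion.2 ⟨j, hj, by simp [(hC j s).2 hl, (Finset.mem_erase.1 hs).1]⟩

omit [Finite G] hp in
theorem end_geom {M : Type*} [AddCommGroup M] (D : AddMonoid.End M) (a : M) (m : ℕ) :
    ∑ r ∈ Finset.range m, ((1 + D) ^ r) a = ∑ l ∈ Finset.range m, m.choose (l + 1) • (D ^ l) a := by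
  induction m with
  | zero => simp
  | succ m ih =>
    have h : ∀ r : ℕ, (((1 : AddMonoid.End M) + D) ^ (r + 1)) a =
        (((1 : AddMonoid.End M) + D) ^ r) a + D ((((1 : AddMonoid.End M) + D) ^ r) a) := fun r => by
      rw [pow_succ']; rfl
    rw [Finset.sum_range_succ', Finset.sum_congr rfl fun r _ => h r, Finset.sum_add_distrib, ← map_sum D, ih,
      map_sum, Finset.sum_congr rfl fun l _ => map_nsmul D _ _]
    have e1 : ∀ l, D ((D ^ l) a) = (D ^ (l + 1)) a := fun l => by rw [pow_succ']; rfl
    rw [Finset.sum_congr rfl fun l _ => congrArg (m.choose (l + 1) • ·) (e1 l)]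
    have e2 : ∑ l ∈ Finset.range m, m.choose (l + 1) • (D ^ (l + 1)) a + (((1 : AddMonoid.End M) + D) ^ 0) a =
        ∑ l ∈ Finset.range (m + 1), m.choose l • (D ^ l) a := by
      rw [Finset.sum_range_succ' (fun l => m.choose l • (D ^ l) a)]
      simp
    have e3 : ∑ l ∈ Finset.range m, m.choose (l + 1) • (D ^ l) a =
        ∑ l ∈ Finset.range (m + 1), m.choose (l + 1) • (D ^ l) a := by
      rw [Finset.sum_range_succ, Nat.choose_succ_self, zero_smul, add_zero]
    rw [add_assoc, e2, e3, ← Finset.sum_add_distrib]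
    exact Finset.sum_congr rfl fun l _ => by rw [Nat.choose_succ_succ, add_smul, add_comm]

/-- The `p`th power of an element of `T k` lies in `T (2 k + 1)`. -/
theorem pow_mem_section (c : Chain p n T) (hT : ∀ j, 2 ≤ j → T j = (⊤ : Subgroup G).lowerCentralSeries (j - 1))
    {k : ℕ} (hk : 2 ≤ k) (hkp : k + 2 ≤ p) (hkn : 2 * k + 1 ≤ n) :
    (∀ x ∈ T k, ∀ y ∈ T k, ⁅x, y⁆ ∈ T (2 * k + 1)) ∧ ∀ x ∈ T k, x ^ p ∈ T (2 * k + 1) := by
  haveI := c.normal (2 * k + 1)
  set π := QuotientGroup.mk' (T (2 * k + 1)) with hπ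
  have hmix : ∀ a b, 2 ≤ a → 2 ≤ b → 2 * k + 1 ≤ a + b → ∀ x ∈ T a, ∀ y ∈ T b, ⁅x, y⁆ ∈ T (2 * k + 1) :=
    fun a b ha hb hab x hx y hy => c.anti hab (c.add a b ha hb (Subgroup.commutator_mem_commutator hx hy))
  have hab : ∀ x ∈ T k, ∀ y ∈ T k, ⁅x, y⁆ ∈ T (2 * k + 1) := by
    obtain ⟨u, hu, hu'⟩ := c.exists_level (j := k) (by omega)
    intro x hx y hy
    obtain ⟨a, -, w, hw, rfl⟩ := c.gen (by omega) hu hu' hx
    obtain ⟨b, -, w', hw', rfl⟩ := c.gen (by omega) hu hu' hy
    have hcw : ∀ z ∈ T k, ∀ v ∈ T (k + 1), Commute (π z) (π v) := fun z hz v hv =>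
      commute_mk.2 (hmix k (k + 1) hk (by omega) (by omega) z hz v hv)
    rw [← commute_mk, map_mul, map_mul, map_pow, map_pow]
    exact (((Commute.refl _).pow_pow a b).mul_right ((hcw u hu w' hw').pow_left a)).mul_left
      ((((hcw u hu w hw).symm).pow_right b).mul_right (hcw w (c.anti (Nat.le_succ k) hw) w' hw'))
  refine ⟨hab, ?_⟩
  suffices key : ∀ d i, k ≤ i → 2 * k + 1 ≤ i + d → ∀ x ∈ T i, x ^ p ∈ T (2 * k + 1) from
    fun x hx => key (k + 1) k le_rfl (by omega) x hx
  intro d
  induction d with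
  | zero => exact fun i _ hi x hx => Subgroup.pow_mem _ (c.anti (by omega) hx) p
  | succ d ih =>
    intro i hki hid x hx
    by_cases hi : 2 * k + 1 ≤ i
    · exact Subgroup.pow_mem _ (c.anti hi hx) p
    have hcomm : ∀ x ∈ T i, ∀ y ∈ T i, Commute (π x) (π y) := fun x hx y hy =>
      commute_mk.2 (hab x (c.anti hki hx) y (c.anti hki hy))
    -- an element moving the relevant layers
    obtain ⟨s, hs⟩ := exists_nondeg c hT (insert (i - 1) (Finset.Icc 1 (k + 1)))
      ((Finset.card_insert_le _ _).trans (by rw [Nat.card_Icc]; omega)) (by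
        intro j hj
        rcases Finset.mem_insert.1 hj with rfl | hj
        · omega
        · rw [Finset.mem_Icc] at hj; omega)
    obtain ⟨b, hb, hb'⟩ : ∃ b ∈ T (i - 1), ⁅s, b⁆ ∉ T (i + 1) := by
      have h := hs (i - 1) (Finset.mem_insert_self _ _)
      rw [LayerTriv, show i - 1 + 2 = i + 1 by omega] at h
      simpa only [not_forall, exists_prop] using h
    set a := ⁅b, s⁆ with ha
    have hai : a ∈ T i := by
      have h := comm_mem_symm.1 (c.mem_step (by omega) hb s)
      rwa [show i - 1 + 1 = i by omega] at h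
    -- the power of `s` is deep
    have hsp : s ^ p ∈ T (k + 2) := by
      suffices h : ∀ j, 1 ≤ j → j ≤ k + 2 → s ^ p ∈ T j from h (k + 2) (by omega) le_rfl
      intro j hj
      induction j, hj using Nat.le_induction with
      | base => exact fun _ => c.pow_mem_succ 0 (c.zero ▸ Subgroup.mem_top s)
      | succ j hj ihj =>
        intro hjk
        by_contra hnot
        refine hs j (Finset.mem_insert_of_mem (Finset.mem_Icc.2 ⟨hj, by omega⟩)) fun u hu => ?_
        obtain ⟨m, -, w, hw, rfl⟩ := c.gen (by omega) (ihj (by omega)) hnot hu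
        haveI := c.normal (j + 2)
        rw [← commute_mk, map_mul, map_pow]
        refine ((commute_mk.2 ?_).pow_right m).mul_right (commute_mk.2 (c.mem_step (by omega) hw s))
        rw [show ⁅s, s ^ p⁆ = 1 from commutatorElement_eq_one_iff_commute.2 ((Commute.refl s).pow_right p)]
        exact one_mem _
    have hspb : Commute (π (s ^ p)) (π b) := by
      refine commute_mk.2 ?_
      by_cases hi2 : 2 ≤ i - 1
      · exact hmix (k + 2) (i - 1) (by omega) hi2 (by omega) _ hsp b hb
      · have h := c.step (k + 2) (by omega) (Subgroup.commutator_mem_commutator hsp (Subgroup.mem_top b))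
        exact c.anti (by omega) h
    -- the additive group of the image of `T i`
    let B : Subgroup (G ⧸ T (2 * k + 1)) := (T i).map π
    letI : CommGroup B := { (inferInstance : Group B) with
      mul_comm := by
        rintro ⟨_, u, hu, rfl⟩ ⟨_, v, hv, rfl⟩
        exact Subtype.ext (hcomm u hu v hv).eq }
    haveI := c.normal i
    haveI : B.Normal := (c.normal i).map _ (QuotientGroup.mk'_surjective _)
    let f : B →* B :=
      { toFun := fun v => ⟨π s * v * (π s)⁻¹, Subgroup.Normal.conj_mem inferInstance _ v.2 _⟩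
        map_one' := Subtype.ext (by simp)
        map_mul' := fun v w => Subtype.ext (by simp [mul_assoc]) }
    let F : AddMonoid.End (Additive B) := MonoidHom.toAdditive f
    let a' : B := ⟨π a, a, hai, rfl⟩
    let A : Additive B := Additive.ofMul a'
    have hF : ∀ r : ℕ, (((F ^ r) A).toMul : G ⧸ T (2 * k + 1)) = π s ^ r * π a * (π s ^ r)⁻¹ := by
      intro r
      induction r with
      | zero => simp [A, a']
      | succ r ihr =>
        rw [pow_succ' F, pow_succ' (π s)]
        show π s * (((F ^ r) A).toMul : G ⧸ T (2 * k + 1)) * (π s)⁻¹ = _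
        rw [ihr]; group
    have hsum : ∀ m : ℕ, ((∑ r ∈ Finset.range m, (F ^ r) A).toMul : G ⧸ T (2 * k + 1)) * π s ^ m =
        (π a * π s) ^ m := by
      intro m
      induction m with
      | zero => simp
      | succ m ihm =>
        rw [Finset.sum_range_succ, toMul_add, Subgroup.coe_mul, hF, pow_succ (π a * π s), ← ihm,
          pow_succ (π s)]
        group
    have hzero : ∑ r ∈ Finset.range p, (F ^ r) A = 0 := by
      refine Additive.toMul.injective (Subtype.ext ?_)
      have h := hsum p
      have hconj : (π a * π s) ^ p = π s ^ p := by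
        have hc1 : Commute (π s ^ p) (π b) := by rw [← map_pow]; exact hspb
        rw [show π a * π s = π b * π s * (π b)⁻¹ by
          rw [ha, map_commutatorElement, commutatorElement_def]; group]
        rw [conj_pow, ← hc1.eq, mul_inv_cancel_right]
      rw [hconj] at h
      simpa using h
    rw [show F = 1 + (F - 1) by abel, end_geom] at hzero
    have hD : ∀ l : ℕ, ((((F - 1) ^ l) A).toMul : G ⧸ T (2 * k + 1)) = π ((fun z => ⁅s, z⁆)^[l] a) := by
      intro l
      induction l with
      | zero => rfl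
      | succ l ihl =>
        rw [pow_succ', Function.iterate_succ_apply', map_commutatorElement, ← ihl]
        show ((F (((F - 1) ^ l) A) - ((F - 1) ^ l) A).toMul : G ⧸ T (2 * k + 1)) = _
        rw [toMul_sub, div_eq_mul_inv, Subgroup.coe_mul, Subgroup.coe_inv]
        rfl
    have hiter : ∀ l, (fun z => ⁅s, z⁆)^[l] a ∈ T (i + l) := by
      intro l
      induction l with
      | zero => exact hai
      | succ l ihl =>
        rw [Function.iterate_succ_apply']
        exact c.mem_step (by omega) ihl s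
    have hap : a ^ p ∈ T (2 * k + 1) := by
      rw [Finset.sum_eq_single 0 ?_ (fun h => absurd (Finset.mem_range.2 hp.out.pos) h)] at hzero
      · have h := congrArg (fun v : Additive B => (v.toMul : G ⧸ T (2 * k + 1))) hzero
        simp only [toMul_nsmul, Subgroup.coe_pow, hD, toMul_zero, Subgroup.coe_one, zero_add,
          Nat.choose_one_right, Function.iterate_zero_apply, ← map_pow] at h
        exact (QuotientGroup.eq_one_iff _).1 h
      · intro l hl hl0
        refine Additive.toMul.injective (Subtype.ext ?_)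
        rw [toMul_nsmul, Subgroup.coe_pow, hD, toMul_zero, Subgroup.coe_one, ← map_pow, QuotientGroup.mk'_apply,
          QuotientGroup.eq_one_iff]
        rw [Finset.mem_range] at hl
        by_cases hlp : l + 1 = p
        · exact Subgroup.pow_mem _ (c.anti (by omega) (hiter l)) _
        · obtain ⟨e, he⟩ := hp.out.dvd_choose_self (k := l + 1) (by omega) (by omega)
          rw [he, pow_mul]
          exact Subgroup.pow_mem _ (ih (i + 1) (by omega) (by omega) _ (c.anti (by omega) (hiter l))) e
    have ha' : a ∉ T (i + 1) := fun h => hb' (comm_mem_symm.1 h)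
    obtain ⟨m, -, w, hw, rfl⟩ := c.gen (by omega) hai ha' hx
    have hwp := ih (i + 1) (by omega) (by omega) w hw
    rw [← QuotientGroup.eq_one_iff] at hap hwp ⊢
    show π ((a ^ m * w) ^ p) = 1
    rw [map_pow, map_mul, map_pow, ((hcomm a hai w (c.anti (Nat.le_succ i) hw)).pow_left m).mul_pow,
      ← pow_mul, mul_comm m p, pow_mul, ← map_pow π a p, ← map_pow π w p, show π (a ^ p) = 1 from hap,
      show π (w ^ p) = 1 from hwp, one_pow, one_mul]

end CfsgLib.MaxClassSection
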